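import Cfsg.Agent.H691.AN.Defs
import Cfsg.Agent.H597.ThreeDegA
import Cfsg.Agent.H646.ProjLat
import Cfsg.Agent.Blocks.Fong
import Cfsg.Agent.Blocks.CliffordCentral
import Cfsg.Agent.CharDeep.CliffordCorr
import Cfsg.Agent.Classification.QDW.WrDeg
import Cfsg.Agent.S0900
import Cfsg.Agent.S0859

/-!
# S4766, pieces B1 and B2 (helper724)

* `b1_trick` : if all nonlinear irreducible characters have degree at least `m`, a subgroup of index at most `m`
  contains the commutator subgroup;
* `b2_exists_qp` : every irreducible character is induced from a quasi-primitive one.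
-/

set_option autoImplicit false

namespace Cfsg.Agent.H724.AN

open Cfsg Cfsg.Agent.H691.AN
open Cfsg.Agent.Classification.QDW.WrDeg (stab mem_stab)

universe u

/-- B1: the permutation character trick -/
theorem b1_trick {G : Type u} [Group G] [Finite G] {m : ℕ} (hm : ∀ d ∈ charDegrees G, d = 1 ∨ m ≤ d) (H : Subgroup G)
    (hH : H.index ≤ m) : commutator G ≤ H := by
  refine Cfsg.Agent.H597.ThreeDegA.commutator_le_of_index_le H fun ψ hψ hne => ?_
  rcases hm _ ⟨⟨ψ, hψ⟩, rfl⟩ with h | h
  · exact absurd h hne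
  · exact hH.trans h

/-- Quasi-primitivity is transported by isomorphisms. -/
theorem qp_comp {H K : Type u} [Group H] [Group K] (e : H ≃* K) {lam : K → ℂ} (h : QP lam) :
    QP (fun x : H => lam (e x)) := by
  intro N hN
  obtain ⟨θ, k, hθ, hk⟩ := h (N.map (e : H →* K)) (hN.map (e : H →* K) e.surjective)
  refine ⟨fun x => θ (e.subgroupMap N x), k,
    Cfsg.Agent.Blocks.CliffordCentral.isIrrCharacter_comp hθ (e.subgroupMap N).toMonoidHom
      (e.subgroupMap N).surjective, fun x => ?_⟩
  exact hk (e.subgroupMap N x)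

/-- A normal subgroup is contained in the stabilizer of each of its characters. -/
theorem le_stab {G : Type u} [Group G] (N : Subgroup G) [hN : N.Normal] {θ : N → ℂ} (hθ : IsIrrCharacter N θ) :
    N ≤ stab N θ := by
  intro n hn
  rw [mem_stab]
  funext x
  change θ (MulAut.conjNormal (n : G) x) = θ x
  have h1 : (MulAut.conjNormal (n : G) x : N) = ⟨n, hn⟩ * x * ⟨n, hn⟩⁻¹ := by
    apply Subtype.ext
    simp
  rw [h1]
  obtain ⟨k, ρ, -, rfl⟩ := hθ
  exact ρ.char_conj _ _

/-- B2 -/
theorem b2_exists_qp {G : Type u} [Group G] [Fintype G] {χ : G → ℂ} (hχ : IsIrrCharacter G χ) :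
    ∃ (H : Subgroup G) (lam : H → ℂ), IsIrrCharacter H lam ∧ QP lam ∧ indFun H lam = χ := by
  classical
  suffices key : ∀ (n : ℕ) (G : Type u) [Group G] [Fintype G], Nat.card G = n → ∀ χ : G → ℂ, IsIrrCharacter G χ →
      ∃ (H : Subgroup G) (lam : H → ℂ), IsIrrCharacter H lam ∧ QP lam ∧ indFun H lam = χ from
    key _ G rfl χ hχ
  clear hχ χ
  intro n
  induction n using Nat.strong_induction_on with
  | _ n ih =>
    intro G _ _ hn χ hχ
    have hcf : IsClassFunction G χ := by
      obtain ⟨k, ρ, -, rfl⟩ := hχ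
      intro x y
      exact ρ.char_conj _ _
    by_cases hq : QP χ
    · refine ⟨⊤, fun x => χ x, ?_, ?_, Cfsg.Agent.S0859.indFun_top χ hcf⟩
      · exact Cfsg.Agent.Blocks.CliffordCentral.isIrrCharacter_comp hχ (Subgroup.topEquiv (G := G)).toMonoidHom
          (Subgroup.topEquiv (G := G)).surjective
      · exact qp_comp (Subgroup.topEquiv (G := G)) hq
    · rw [QP] at hq
      push Not at hq
      obtain ⟨N, hN, hNN⟩ := hq
      obtain ⟨⟨θ, hθ⟩, hcon⟩ := Cfsg.Agent.Blocks.Fong.exists_constituent (N := N) ⟨χ, hχ⟩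
      simp only at hcon
      have hT : ∀ g : G, g ∈ stab N θ ↔ ∀ x : N, θ ⟨g * x * g⁻¹, hN.conj_mem (x : G) x.2 g⟩ = θ x := by
        intro g
        rw [mem_stab]
        constructor
        · intro h x
          exact congrFun h x
        · intro h
          funext x
          exact h x
      have hlt : Nat.card (stab N θ) < n := by
        rw [← hn]
        refine lt_of_le_of_ne (Subgroup.card_le_card_group _) fun heq => ?_
        have htop : stab N θ = ⊤ := Subgroup.eq_top_of_card_eq _ heq
        obtain ⟨e, he⟩ := Cfsg.Agent.S0900.restrict_eq_smul N χ hχ θ hθ hcon fun g => by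
          have : g ∈ stab N θ := by
            rw [htop]
            exact Subgroup.mem_top g
          exact (hT g).1 this
        obtain ⟨x, hx⟩ := hNN θ e hθ
        exact hx (by simpa using congrFun he x)
      obtain ⟨ψ, hψ, hind, -⟩ := Cfsg.Agent.CharDeep.CliffordCorr.clifford_correspondence N θ hθ (stab N θ) hT
        (le_stab N hθ) χ hχ hcon
      obtain ⟨L, lam, hlam, hqp, hil⟩ := ih _ hlt (stab N θ) rfl ψ hψ
      obtain ⟨e, he⟩ := Cfsg.Agent.H646.ProjLat.indFun_map (stab N θ) L lam
      refine ⟨L.map (stab N θ).subtype, fun x => lam (e x), ?_, qp_comp e hqp, ?_⟩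
      · exact Cfsg.Agent.Blocks.CliffordCentral.isIrrCharacter_comp hlam e.toMonoidHom e.surjective
      · rw [← he, hil, hind]

end Cfsg.Agent.H724.AN
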